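import Cfsg.Agent.SIG.NS.Fld2
import Cfsg.Agent.SIG.NSFT

/-!
# Recognition of an `A`-simple group from a signalizer functor
-/

open Cfsg CL.MSS CL.BG CL.SF CL.SF.Sig CL.NS Subgroup
open scoped commutatorElement

set_option linter.unusedSectionVars false

namespace CL.NE

universe u

variable {G : Type u} [Group G] [Finite G]

section general
variable {A T N X K L W : Subgroup G}

theorem le_of_prodEq (hA : A ≤ 𝐍(T)) (hc : (#|A|).Coprime #|T|)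
    (h : ∀ x ∈ T ⊔ A, ∃ g ∈ A, g⁻¹ * x ∈ N) : T ≤ N := by
  have h1 : ProdEq A ((T ⊔ A) ⊓ N) (T ⊔ A) := ⟨le_sup_right, inf_le_left, fun x hx => by
    obtain ⟨g, hg, e⟩ := h x hx
    exact ⟨g, hg, _, ⟨(T ⊔ A).mul_mem ((T ⊔ A).inv_mem (mem_sup_right hg)) hx, e⟩, by group⟩⟩
  have h2 : (T ⊔ A) ⊓ N ≤ 𝐍(T) := inf_le_left.trans (sup_le le_normalizer hA)
  have h3 := (relIndex_dvd_of_between (le_sup_right (a := T)) (sup_le le_sup_left inf_le_left)).trans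
    h1.relIndex_right_dvd
  rw [(prodEq_sup h2).relIndex_right] at h3
  exact (relIndex_eq_one.1 (Nat.eq_one_of_dvd_coprimes hc h3 (relIndex_dvd_card' _ _))).trans inf_le_right

theorem Cp.tr_of_min (hK : Cp X K) (hL : Cp X L) (hA : A ≤ 𝐍(X))
    (h : ∀ N, N ≤ X → X ≤ 𝐍(N) → A ≤ 𝐍(N) → N = ⊥ ∨ N = X) : ∃ g ∈ A, g •ᶜ K = L := by
  by_contra! hn
  rcases h _ (hK.ncl_le hA) (hK.norm_ncl hA) (le_norm_ncl _ _) with e | e
  · exact hK.sp.ne_bot (le_bot_iff.1 (e ▸ le_ncl K A))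
  · exact hL.sp.nab (hL.le.trans (e.ge.trans (hK.ncl_le_cent hL hA hn)))

theorem Semi.isKGroup (hW : Semi W) (h : ∀ K, Cp W K → IsKGroup K) : IsKGroup W := by
  rw [KG.isKGroup_iff]
  intro H S _ f hf hs hc
  by_contra hn
  have key : ∀ K, ∀ hK : Cp W K, (((hK.sp.prH (hK.le_dm hW)).comp H.subtype).ker).map f = ⊤ := by
    intro K hK
    set φ := (hK.sp.prH (hK.le_dm hW)).comp H.subtype
    refine ((Normal.map inferInstance f hf).eq_bot_or_eq_top).resolve_left fun e => hn ?_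
    rw [Subgroup.map_eq_bot_iff, ← φ.ker_rangeRestrict] at e
    have h1 : IsKGroup φ.range := KG.isKGroup_of_le (h K hK) (by rintro _ ⟨x, rfl⟩; exact pr_mem K _)
    refine KG.known_of_isSimpleGroup (KG.isKGroup_of_surjective h1
      (φ.rangeRestrict.liftOfSurjective φ.rangeRestrict_surjective ⟨f, e⟩) fun s => ?_) hs hc
    obtain ⟨x, rfl⟩ := hf s
    exact ⟨φ.rangeRestrict x, MonoidHom.liftOfRightInverse_comp_apply _ _ _ _ _⟩
  obtain ⟨M, ⟨hM, hMf⟩, hmin⟩ := wellFounded_lt.has_min {M : Subgroup H | M.Normal ∧ M.map f = ⊤}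
    ⟨⊤, inferInstance, by rw [← MonoidHom.range_eq_map, MonoidHom.range_eq_top.2 hf]⟩
  have hp : ⁅(⊤ : Subgroup S), (⊤ : Subgroup S)⁆ = ⊤ := (Comp.isQuasisimple_of_isSimpleGroup hc).commutator_top
  have h0 : M = ⊥ := le_bot_iff.1 fun x hx => by
    refine mem_bot.2 (Subtype.ext (Subtype.ext (hW.eq_one x.1.2 fun K hK => ?_)))
    set C := ((hK.sp.prH (hK.le_dm hW)).comp H.subtype).ker
    have h1 : M ⊓ C = M := by
      by_contra e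
      refine hmin _ ⟨inferInstance, eq_top_iff.2 ?_⟩ (lt_of_le_of_ne inf_le_left e)
      rw [← hp]
      nth_rw 1 [← hMf]
      rw [← key K hK, ← map_commutator]
      exact map_mono (commutator_le_inf _ _)
    exact (h1.ge hx).2
  rw [h0, Subgroup.map_bot] at hMf
  exact bot_ne_top hMf

theorem semi_layerOf (h : fittingOf T = ⊥) : Semi (Comp.layerOf T) := by
  refine Comp.layerOf_le_iff.2 fun K hK => le_sSup ⟨hK.le_layerOf, hK.layerOf_le_normalizer,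
    hK.not_le_centralizer, fun N h1 h2 => ?_⟩
  refine (hK.isQuasisimple.eq_or_le_centralizer h1 h2).symm.imp_left fun e => le_bot_iff.1 ?_
  rw [← h]
  refine le_trans (le_inf (h1.trans hK.le_layerOf) (cent_symm (Comp.layerOf_le_iff.2 fun L hL => ?_)))
    (Comp.center_layerOf_le_fittingOf T)
  by_cases e' : L = K
  · exact e' ▸ cent_symm e
  · exact (hL.le_centralizer_of_ne hK e').trans (centS h1)

theorem Semi.le_layerOf (h : Semi X) : X ≤ Comp.layerOf X := h.le_iff.2 fun _ hK =>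
  (Comp.isCompIn_of_le_normalizer hK.le hK.norm
    (have := hK.sp.simple; Comp.isQuasisimple_of_isSimpleGroup hK.sp.nonab)).le_layerOf

theorem Sp.not_sol (h : Sp K) : ¬ Group.IsSolvable K :=
  (have := h.simple; Comp.isQuasisimple_of_isSimpleGroup h.nonab).not_isSolvable

end general

/-- the hypotheses of the recognition theorem. -/
structure Hyp (σ : SF.Sig G) (θ X : G → Subgroup G) : Prop where
  cent : ∀ a, σ.Pt a → θ a ≤ 𝐂₁(a)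
  inv : ∀ a, σ.Pt a → σ.A ≤ 𝐍(θ a)
  cop : ∀ a, σ.Pt a → ¬ σ.r ∣ #|θ a|
  le : ∀ a, X a ≤ θ a
  nrm : ∀ a, 𝐍(θ a) ≤ 𝐍(X a)
  semi : ∀ a, σ.Pt a → Semi (X a)
  min : ∀ a N, σ.Pt a → N ≤ X a → X a ≤ 𝐍(N) → σ.A ≤ 𝐍(N) → N = ⊥ ∨ N = X a
  kg : ∀ a, σ.Pt a → IsKGroup (X a)
  fc : ∀ a, σ.Pt a → X a ≠ ⊥ → θ a ⊓ 𝐂(X a) = ⊥
  ac : ∀ a, σ.Pt a → X a ≠ ⊥ → σ.A ⊓ 𝐂(X a) ≤ zpowers a
  bal : ∀ a b, σ.Pt a → σ.Pt b → θ a ⊓ 𝐂₁(b) ≤ θ b
  balX : ∀ a b, σ.Pt a → σ.Pt b → Semi (X a ⊓ 𝐂₁(b)) → X a ⊓ 𝐂₁(b) ≤ X b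
  leW : ∀ a, σ.Pt a → θ a ≤ signalizerClosure σ.A X
  ex : ∃ a, σ.Pt a ∧ X a ≠ ⊥

/-- points with components of the largest order -/
structure Mx (σ : SF.Sig G) (X : G → Subgroup G) (a : G) : Prop where
  pt : σ.Pt a
  ne : X a ≠ ⊥
  max : ∀ K b L, Cp (X a) K → σ.Pt b → Cp (X b) L → #|L| ≤ #|K|

namespace Hyp

variable {σ : SF.Sig G} {θ X : G → Subgroup G} (h : Hyp σ θ X) {a b c d o u x : G} {D K L M N : Subgroup G}
include h

theorem xinv (ha : σ.Pt a) : σ.A ≤ 𝐍(X a) := (h.inv a ha).trans (h.nrm a)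
theorem xcop (ha : σ.Pt a) : ¬ σ.r ∣ #|X a| := fun e => h.cop a ha (e.trans (card_dvd_of_le (h.le a)))
theorem xcent (ha : σ.Pt a) : X a ≤ 𝐂₁(a) := (h.le a).trans (h.cent a ha)
theorem kcop (ha : σ.Pt a) (hK : Cp (X a) K) : ¬ σ.r ∣ #|K| :=
  fun e => h.xcop ha (e.trans (card_dvd_of_le hK.le))

omit h in
theorem _root_.CL.NE.Cp.ne (hK : Cp D K) : D ≠ ⊥ := fun e => hK.sp.ne_bot (le_bot_iff.1 (e ▸ hK.le))

theorem tr (ha : σ.Pt a) (hK : Cp (X a) K) (hL : Cp (X a) L) : ∃ g ∈ σ.A, g •ᶜ K = L :=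
  hK.tr_of_min hL (h.xinv ha) fun N => h.min a N ha

theorem θ_le_norm (ha : σ.Pt a) (hK : Cp (X a) K) : θ a ≤ 𝐍(K) := by
  refine le_of_prodEq (h.inv a ha) (coprime_of_not_dvd le_rfl (h.cop a ha)) fun x hx => ?_
  obtain ⟨g, hg, e⟩ := h.tr ha hK (hK.cj (h.nrm a (sup_le le_normalizer (h.inv a ha) hx)))
  exact ⟨g, hg, by rw [mem_normalizer_iff_cj, cj_mul, ← e, inv_cj_cj]⟩

theorem self_cent (ha : σ.Pt a) (hK : Cp (X a) K) : zpowers a ≤ 𝐂(K) :=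
  zpowers_le.2 (le_cent1_iff.1 (hK.le.trans (h.xcent ha)))

theorem self_norm (ha : σ.Pt a) (hK : Cp (X a) K) : zpowers a ≤ 𝐍(K) :=
  (h.self_cent ha hK).trans (cent_le_norm K)

theorem cent_le (ha : σ.Pt a) (hK : Cp (X a) K) : σ.A ⊓ 𝐂(K) ≤ zpowers a := fun u hu => by
  refine h.ac a ha hK.ne ⟨hu.1, le_cent1_iff.1 ((h.semi a ha).le_iff.2 fun L hL => ?_)⟩
  obtain ⟨g, hg, rfl⟩ := h.tr ha hK hL
  exact cj_le_of_mem (le_cent1_iff.2 hu.2) (A_le_cent1 hu.1 hg)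

theorem mem_norm (ha : σ.Pt a) (hK : Cp (X a) K) (hL : Cp (X a) L) (hu : u ∈ σ.A) (hn : u ∈ 𝐍(K)) :
    u ∈ 𝐍(L) := by
  obtain ⟨g, hg, rfl⟩ := h.tr ha hK hL
  rw [mem_normalizer_iff_cj, ← cj_mul, mul_comm_A hu hg, cj_mul, cj_eq_of_mem_normalizer hn]

theorem kf (ha : σ.Pt a) (hK : Cp (X a) K) : KF σ.r K ∧ Gen σ.r K :=
  have := Fact.mk σ.prime
  have := hK.sp.simple
  have h1 := KG.known_of_isSimpleGroup (KG.isKGroup_of_le (h.kg a ha) hK.le) this hK.sp.nonab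
  ⟨KF.of_known h1 hK.sp.nonab (h.kcop ha hK), KCop.gen h1 hK.sp.nonab (h.kcop ha hK)⟩

theorem ka (ha : σ.Pt a) (hK : Cp (X a) K) (hu : u ∈ σ.A) (hn : u ∈ 𝐍(K)) (h1 : u ∉ zpowers a) :
    Ka σ.r K u :=
  ⟨σ.prime, hK.sp, h.kcop ha hK, (h.kf ha hK).1, hn, pow_r hu, fun e => h1 (h.cent_le ha hK ⟨hu, e⟩)⟩

theorem norm_le (ha : σ.Pt a) (hK : Cp (X a) K) (hu : u ∈ σ.A) (hn : u ∈ 𝐍(K)) (h1 : u ∉ zpowers a) :
    σ.A ⊓ 𝐍(K) ≤ zpowers a ⊔ zpowers u := fun v hv => by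
  obtain ⟨i, e⟩ := kf_cyc σ.prime (h.kf ha hK).1 (B := σ.A ⊓ 𝐍(K)) (fun b hb => pow_r hb.1) inf_le_right
    ⟨hu, hn⟩ (h.ka ha hK hu hn h1).nc hv
  have := mul_mem (mem_sup_right (S := zpowers a) (pow_mem (mem_zpowers u) i))
    (mem_sup_left (h.cent_le ha hK ⟨σ.A.mul_mem (σ.A.inv_mem (pow_mem hu i)) hv.1, e⟩))
  rwa [mul_inv_cancel_left] at this

theorem fu_of (ha : σ.Pt a) (hK : Cp (X a) K) (hD : D ⊓ 𝐍(K) ≤ zpowers a) : Fu K D :=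
  hD.trans (h.self_cent ha hK)

theorem fu_le (ha : σ.Pt a) (hK : Cp (X a) K) (hD : D ≤ σ.A) (hf : Fu K D) : D ⊓ 𝐍(K) ≤ zpowers a :=
  (le_inf (inf_le_left.trans hD) hf).trans (h.cent_le ha hK)

theorem fu_all (ha : σ.Pt a) (hK : Cp (X a) K) (hD : D ≤ σ.A) (hf : Fu K D) (hL : Cp (X a) L) : Fu L D :=
  h.fu_of ha hL fun _ hy => h.fu_le ha hK hD hf ⟨hy.1, h.mem_norm ha hL hK (hD hy.1) hy.2⟩

theorem bal_fu (ha : σ.Pt a) (hK : Cp (X a) K) (hD : D ≤ σ.A) (hf : Fu K D) (hd : d ∈ D) (h1 : d ≠ 1) :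
    X a ⊓ 𝐂₁(d) ≤ X d := by
  refine h.balX a d ha ⟨hD hd, h1⟩ ?_
  rw [← cent_zpowers]
  exact (h.semi a ha).fix ((zpowers_le.2 (hD hd)).trans (h.xinv ha)) fun L hL =>
    (inf_le_inf_right _ (zpowers_le.2 hd)).trans (h.fu_all ha hK hD hf hL)

theorem exists_mx : ∃ a, Mx σ X a := by
  obtain ⟨a, ha, h1⟩ := h.ex
  obtain ⟨K, hK⟩ := (h.semi a ha).exists_cp h1
  obtain ⟨⟨b, L⟩, hb, hm⟩ := Set.exists_max_image {p : G × Subgroup G | σ.Pt p.1 ∧ Cp (X p.1) p.2}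
    (fun p => #|p.2|) (Set.toFinite _) ⟨(a, K), ha, hK⟩
  refine ⟨b, hb.1, hb.2.ne, fun K' c M h2 h3 h4 => ?_⟩
  obtain ⟨g, -, rfl⟩ := h.tr hb.1 hb.2 h2
  rw [card_cj]
  exact hm (c, M) ⟨h3, h4⟩

theorem key (ha : Mx σ X a) (hK : Cp (X a) K) (hD : D ≤ σ.A) (hf : Fu K D) (hd : d ∈ D) (h1 : d ≠ 1) :
    Mx σ X d ∧ ∀ L, Cp (X d) L → Fu L D := by
  have pd : σ.Pt d := ⟨hD hd, h1⟩
  have hDX := hD.trans (h.xinv ha.pt)
  have hS := hK.dg_sp (h.semi a ha.pt) hDX hf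
  have hc := hK.card_dg (h.semi a ha.pt) hDX hf
  have hle : dg K D ≤ X d := ((hK.dg_le hDX).trans (inf_le_inf_left _ (cent_le_cent1 hd))).trans
    (h.bal_fu ha.pt hK hD hf hd h1)
  obtain ⟨L, hL, hi⟩ := (h.semi d pd).exists_inj hS hle
  have hdm := hle.trans (hL.le_dm (h.semi d pd))
  refine ⟨⟨pd, hL.ne, fun K' c M h2 h3 h4 => ?_⟩, fun L' => h.fu_all pd hL hD (hL.sp.fu_of_surj hdm inf_le_right
    fun k hk => hL.sp.surj_of_inj hdm hi (hc ▸ ha.max K d L hK pd hL) hk)⟩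
  obtain ⟨g, -, rfl⟩ := h.tr pd hL h2
  rw [card_cj]
  exact (ha.max K c M hK h3 h4).trans (hc ▸ hL.sp.card_le_of_inj hdm hi)

theorem key2 (ha : Mx σ X a) (hK : Cp (X a) K) (hd : d ∈ σ.A) (hn : d ∉ 𝐍(K)) :
    Mx σ X d ∧ ∀ L, Cp (X d) L → a ∉ 𝐍(L) := by
  have hD : zpowers a ⊔ zpowers d ≤ σ.A := sup_le (zpowers_le.2 ha.pt.1) (zpowers_le.2 hd)
  obtain ⟨h1, h2⟩ := h.key ha hK hD (h.fu_of ha.pt hK fun y hy => by
    by_contra e
    exact hn (sup_le (h.self_norm ha.pt hK) (zpowers_le.2 hy.2) (exchange (zpowers_le.2 ha.pt.1) hd hy.1 e)))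
    (mem_sup_right (mem_zpowers d)) (fun e => hn (e ▸ one_mem _))
  exact ⟨h1, fun L hL e => hn (h.self_norm ha.pt hK (h1.pt.mem_zpowers_symm
    (h.fu_le h1.pt hL hD (h2 L hL) ⟨mem_sup_left (mem_zpowers a), e⟩) ha.pt.2))⟩

theorem reg (ha : Mx σ X a) (hK : Cp (X a) K) (hn : σ.A ⊓ 𝐍(K) ≤ zpowers a) : Reg σ X := by
  have k := fun d (hd : σ.Pt d) => h.key ha hK le_rfl (h.fu_of ha.pt hK hn) hd.1 hd.2
  refine ⟨h.semi, fun d hd => (k d hd).1.ne, fun _ => h.xcop, fun _ => h.xinv, fun _ => h.xcent,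
    fun _ _ _ => h.tr, fun d L hd hL => h.fu_le hd hL le_rfl ((k d hd).2 L hL), fun b d hb hd => ?_⟩
  obtain ⟨L, hL⟩ := (h.semi b hb).exists_cp (k b hb).1.ne
  exact h.bal_fu hb hL le_rfl ((k b hb).2 L hL) hd.1 hd.2

omit h in
theorem not_A_le_sup (hc : c ∈ σ.A) (hd : d ∈ σ.A) : ¬ σ.A ≤ zpowers c ⊔ zpowers d := fun e => by
  have h1 := (σ.rank.trans (card_le_of_le e)).trans (Nat.le_of_dvd (Nat.mul_pos (card_pos' _) (card_pos' _))
    (card_sup_dvd_mul_of_le_normalizer ((zpowers_le.2 hc).trans (A_le_norm_zpowers hd))))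
  have h2 : ∀ c ∈ σ.A, #|zpowers c| ≤ σ.r := fun c hc => by
    rw [Nat.card_zpowers]; exact Nat.le_of_dvd σ.prime.pos (orderOf_dvd_of_pow_eq_one (pow_r hc))
  have := (Nat.pow_le_pow_iff_right σ.one_lt_r).1 (h1.trans ((Nat.mul_le_mul (h2 c hc) (h2 d hd)).trans (sq _).ge))
  omega

theorem fld (hn : ∀ a K, Mx σ X a → Cp (X a) K → ¬ σ.A ⊓ 𝐍(K) ≤ zpowers a) : ∃ o, Fld σ o X := by
  obtain ⟨a, ha⟩ := h.exists_mx
  obtain ⟨K, hK⟩ := (h.semi a ha.pt).exists_cp ha.ne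
  obtain ⟨u, hu, hua⟩ := SetLike.not_le_iff_exists.1 (hn a K ha hK)
  obtain ⟨b, hb, hbK⟩ : ∃ b ∈ σ.A, b ∉ 𝐍(K) := SetLike.not_le_iff_exists.1 fun e =>
    not_A_le_sup ha.pt.1 hu.1 ((le_inf le_rfl e).trans (h.norm_le ha.pt hK hu.1 hu.2 hua))
  obtain ⟨mb, hab⟩ := h.key2 ha hK hb hbK
  obtain ⟨L, hL⟩ := (h.semi b mb.pt).exists_cp mb.ne
  have hD : (σ.A ⊓ 𝐍(L)) ⊔ zpowers a ≤ σ.A := sup_le inf_le_left (zpowers_le.2 ha.pt.1)
  obtain ⟨y, hy, hyK⟩ : ∃ y ∈ ((σ.A ⊓ 𝐍(L)) ⊔ zpowers a) ⊓ 𝐍(K), y ∉ 𝐂(K) := SetLike.not_le_iff_exists.1 fun e =>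
    hn b L mb hL ((le_inf le_sup_left inf_le_right).trans (h.fu_le mb.pt hL hD
      ((h.key ha hK hD e (mem_sup_left ⟨hb, h.self_norm mb.pt hL (mem_zpowers b)⟩) mb.pt.2).2 L hL)))
  obtain ⟨o, ho, i, rfl⟩ := exists_mul_pow inf_le_left ha.pt.1 hy.1
  have hoK : o ∈ 𝐍(K) := (mul_mem_cancel_right (pow_mem (h.self_norm ha.pt hK (mem_zpowers a)) i)).1 hy.2
  have hoa : o ∉ zpowers a := fun e => hyK (h.self_cent ha.pt hK (mul_mem e (pow_mem (mem_zpowers a) i)))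
  have po : σ.Pt o := pt_of_not_mem ho.1 hoa
  have hao : a ∉ zpowers o := fun e => hoa (po.mem_zpowers_symm e ha.pt.2)
  have no : ¬ Mx σ X o := fun mo => by
    obtain ⟨M, hM⟩ := (h.semi o po).exists_cp mo.ne
    have h1 : a ∈ 𝐍(M) := by_contra fun e => (h.key2 mo hM ha.pt.1 e).2 K hK hoK
    have h2 : b ∈ 𝐍(M) := by_contra fun e => (h.key2 mo hM hb e).2 L hL ho.2
    exact hbK (sup_le (zpowers_le.2 hoK) (h.self_norm ha.pt hK) (h.norm_le po hM ha.pt.1 h1 hao ⟨hb, h2⟩))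
  have mx : ∀ c, Of σ o c → Mx σ X c := fun c hc => by
    by_cases e1 : c ∈ 𝐍(K)
    · refine (h.key2 mb hL hc.1 fun e2 => hab L hL ?_).1
      have := h.norm_le ha.pt hK ho.1 hoK hoa ⟨hc.1, e1⟩
      rw [sup_comm] at this
      exact sup_le (zpowers_le.2 ho.2) (zpowers_le.2 e2) (exchange (zpowers_le.2 ho.1) ha.pt.1 this hc.2)
    · exact (h.key2 ha hK hc.1 e1).1
  have on : ∀ c M, Of σ o c → Cp (X c) M → o ∈ 𝐍(M) := fun c M hc hM =>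
    by_contra fun e => no (h.key2 (mx c hc) hM ho.1 e).1
  refine ⟨o, po, fun c hc => h.semi c hc.pt, fun c hc => (mx c hc).ne, fun c hc => h.xcop hc.pt,
    fun c hc => h.xinv hc.pt, fun c hc => h.xcent hc.pt, fun c _ _ hc => h.tr hc.pt,
    fun c M hc hM => h.norm_le hc.pt hM ho.1 (on c M hc hM) (hc.not_mem po),
    fun c M hc hM => h.ka hc.pt hM ho.1 (on c M hc hM) (hc.not_mem po), fun c M hc hM => (h.kf hc.pt hM).2,
    fun c d hc hd e => ?_, fun c d M hc hd hM => (inf_le_inf_right _ (h.le c)).trans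
      ((h.bal c d hc.pt hd.pt).trans (h.θ_le_norm hd.pt hM))⟩
  obtain ⟨M, hM⟩ := (h.semi c hc.pt).exists_cp (mx c hc).ne
  refine h.bal_fu hc.pt hM (zpowers_le.2 hd.1) (h.fu_of hc.pt hM fun y hy => by_contra fun e' => e ?_)
    (mem_zpowers d) hd.pt.2
  exact sup_le_sup_left (zpowers_le.2 hy.1) _ (exchange (zpowers_le.2 hc.1) ho.1
    (h.norm_le hc.pt hM ho.1 (on c M hc hM) (hc.not_mem po) ⟨zpowers_le.2 hd.1 hy.1, hy.2⟩) e')

omit h in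
theorem le_clo (ha : σ.Pt a) : X a ≤ signalizerClosure σ.A X :=
  le_iSup (fun a : {a : G // a ∈ σ.A ∧ a ≠ 1} => X a) ⟨a, ha⟩

theorem clo_inv : σ.A ≤ 𝐍(signalizerClosure σ.A X) := le_normalizer_iSup fun a => h.xinv a.2

theorem cases : ¬ σ.r ∣ #|signalizerClosure σ.A X| ∧
    (∃ L, σ.Ln L ∧ ∀ d ∈ L, d ≠ 1 → X d ≠ ⊥ ∧ signalizerClosure σ.A X ⊓ 𝐂₁(d) ≤ θ d) ∧
    ∃ W x, W ≤ signalizerClosure σ.A X ∧ signalizerClosure σ.A X ≤ 𝐍(W) ∧ σ.A ≤ 𝐍(W) ∧ σ.Pt x ∧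
      Out σ.r x (X x) W := by
  by_cases hc : ∃ a K, Mx σ X a ∧ Cp (X a) K ∧ σ.A ⊓ 𝐍(K) ≤ zpowers a
  · obtain ⟨a, K, ha, hK, hn⟩ := hc
    have hR := h.reg ha hK hn
    obtain ⟨L, hL, -⟩ := exists_ln_not_mem ha.pt
    exact ⟨(hR.out ha.pt).cop, ⟨L, hL, fun d hd h1 => ⟨hR.ne d (hL.pt hd h1),
      (hR.out (hL.pt hd h1)).fix.trans (h.le d)⟩⟩, _, a, le_rfl, le_normalizer, h.clo_inv, ha.pt, hR.out ha.pt⟩
  obtain ⟨o, hF⟩ := h.fld fun a K ha hK e => hc ⟨a, K, ha, hK, e⟩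
  have po := hF.po
  have hAW : σ.A ≤ 𝐍(cls σ o X) := le_normalizer_iSup fun c => h.xinv c.2.pt
  have hW : cls σ o X ≤ signalizerClosure σ.A X := iSup_le fun c => le_clo c.2.pt
  have hn : θ o ≤ 𝐍(cls σ o X) := by
    refine le_of_ln (h.inv o po) (h.cop o po) fun L hL => ?_
    by_cases e : o ∈ L
    · rw [le_antisymm (hF.cls_le hL e) (iSup_le fun d => le_cls d.2.2)]
      exact le_normalizer_iSup fun d => ((inf_le_inf_left _ (cent_le_cent1 d.2.1)).trans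
        (h.bal o d po d.2.2.pt)).trans (le_normalizer.trans (h.nrm d))
    · exact le_normalizer_iSup fun d => ((le_inf inf_le_left ((hL.le_centA po.1 e inf_le_right
        (inf_le_left.trans (h.cent o po))).trans (cent_le_cent1 d.2.1))).trans
        (h.bal o d po d.2.pt)).trans (le_normalizer.trans (h.nrm d))
  have hG : signalizerClosure σ.A X = cls σ o X ⊔ θ o := by
    refine le_antisymm (iSup_le fun a => ?_) (sup_le hW (h.leW o po))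
    by_cases e : a.1 ∈ zpowers o
    · exact ((le_inf (h.le a) ((h.xcent a.2).trans (po.cent1_eq e a.2.2).le)).trans
        (h.bal a o a.2 po)).trans le_sup_right
    · exact (le_cls ⟨a.2.1, e⟩).trans le_sup_left
  obtain ⟨L, hL, hoL⟩ := exists_ln_not_mem po
  obtain ⟨x, hx, hx1⟩ := exists_mem_ne_one hL.ne_bot
  have ox := of_of_mem po hL.1 hoL hx hx1
  refine ⟨fun e => ?_, ⟨L, hL, fun d hd h1 => ?_⟩, _, x, hW, hG ▸ sup_le le_normalizer hn, hAW, ox.pt, hF.out ox⟩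
  · rw [hG] at e
    exact ((prodEq_sup hn).dvd_or_dvd σ.prime e).elim (hF.out ox).cop (h.cop o po)
  · have od := of_of_mem po hL.1 hoL hd h1
    have hz := zpowers_le.2 od.1
    refine ⟨hF.ne d od, ?_⟩
    rw [hG, ← cent_zpowers]
    refine (sup_inf_cent_le hn (hz.trans hAW) (hz.trans (h.inv o po))
      (coprime_of_not_dvd hz (hF.out ox).cop) (sol_zpowers od.1)).trans ?_
    rw [cent_zpowers]
    exact sup_le ((hF.out od).fix.trans (h.le d)) (h.bal o d po od.pt)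

theorem fix_eq (ha : σ.Pt a) : signalizerClosure σ.A X ⊓ 𝐂₁(a) = θ a := by
  obtain ⟨h1, ⟨L, hL, h2⟩, -⟩ := h.cases
  refine le_antisymm (le_of_noncyclic hL.1 hL.not_cyclic (hL.1.trans (MSS.le_normalizer_inf h.clo_inv
    (A_le_norm_cent1 ha.1))) (fun e => h1 (e.trans (card_dvd_of_le inf_le_left))) fun d hd e => ?_)
    (le_inf (h.leW a ha) (h.cent a ha))
  rw [inf_right_comm]
  exact (inf_le_inf_right _ (h2 d hd e).2).trans (h.bal d a (hL.pt hd e) ha)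

theorem fixA_ne (ha : σ.Pt a) (h1 : X a ≠ ⊥) : X a ⊓ 𝐂(σ.A) ≠ ⊥ := by
  obtain ⟨K, hK⟩ := (h.semi a ha).exists_cp h1
  obtain ⟨k, hk, k1, hc⟩ : ∃ k ∈ K, k ≠ 1 ∧ σ.A ⊓ 𝐍(K) ≤ 𝐂₁(k) := by
    have e : ∀ k ∈ K, zpowers a ≤ 𝐂₁(k) := fun k hk => (h.self_cent ha hK).trans (cent_le_cent1 hk)
    by_cases hn : σ.A ⊓ 𝐍(K) ≤ zpowers a
    · obtain ⟨k, hk, k1⟩ := exists_mem_ne_one hK.sp.ne_bot
      exact ⟨k, hk, k1, hn.trans (e k hk)⟩
    · obtain ⟨u, hu, hua⟩ := SetLike.not_le_iff_exists.1 hn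
      obtain ⟨k, hk, k1⟩ := exists_mem_ne_one (H := K ⊓ 𝐂₁(u)) fun e =>
        (h.ka ha hK hu.1 hu.2 hua).nab (e ▸ bot_le)
      exact ⟨k, hk.1, k1, (h.norm_le ha hK hu.1 hu.2 hua).trans
        (sup_le (e k hk.1) (zpowers_le.2 (mem_cent1_comm.1 hk.2)))⟩
  obtain ⟨g, hg, rfl⟩ := hK.dg_surj (h.semi a ha) (h.xinv ha) hk hc
  intro e
  have := hK.dg_le (h.xinv ha) hg
  rw [e, mem_bot] at this
  exact k1 (this ▸ hK.sp.pr_one)

theorem le_of_ne (ha : σ.Pt a) (hn : θ a ≤ 𝐍(N)) (hA : σ.A ≤ 𝐍(N)) (h1 : N ⊓ θ a ≠ ⊥) : X a ≤ N := by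
  by_cases e : X a = ⊥
  · exact e ▸ bot_le
  have hX := (h.le a).trans hn
  rcases h.min a (N ⊓ X a) ha inf_le_right (MSS.le_normalizer_inf hX le_normalizer)
    (MSS.le_normalizer_inf hA (h.xinv ha)) with e' | e'
  · refine absurd (le_bot_iff.1 ?_) h1
    rw [← h.fc a ha e]
    refine le_inf inf_le_right (comm_eq_bot_iff.1 (le_bot_iff.1 (e' ▸ le_inf ?_ ?_)))
    · exact (commutator_mono inf_le_left le_rfl).trans (commutator_le_left_of_normalizes hX)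
    · exact commutator_le_right_of_normalizes (inf_le_right.trans (le_normalizer.trans (h.nrm a)))
  · exact e'.ge.trans inf_le_left

theorem simple (hN : N ≤ signalizerClosure σ.A X) (hn : signalizerClosure σ.A X ≤ 𝐍(N)) (hA : σ.A ≤ 𝐍(N)) :
    N = ⊥ ∨ N = signalizerClosure σ.A X := by
  obtain ⟨h1, ⟨L, hL, h2⟩, -⟩ := h.cases
  refine or_iff_not_imp_left.2 fun h0 => le_antisymm hN (iSup_le fun b => ?_)
  obtain ⟨d, hd, d1, e⟩ : ∃ d ∈ L, d ≠ 1 ∧ N ⊓ 𝐂₁(d) ≠ ⊥ := by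
    by_contra! e
    exact h0 (le_bot_iff.1 (le_of_noncyclic hL.1 hL.not_cyclic (hL.1.trans hA)
      (fun e => h1 (e.trans (card_dvd_of_le hN))) fun d hd d1 => (e d hd d1).le))
  have pd := hL.pt hd d1
  have h3 : X d ≤ N := h.le_of_ne pd ((h.leW d pd).trans hn) hA fun e' => e (le_bot_iff.1 (e' ▸
    le_inf inf_le_left ((inf_le_inf_right _ hN).trans (h2 d hd d1).2)))
  exact h.le_of_ne b.2 ((h.leW b b.2).trans hn) hA fun e' => h.fixA_ne pd (h2 d hd d1).1 (le_bot_iff.1 (e' ▸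
    le_inf (inf_le_left.trans h3) ((inf_le_inf (h.le d) (cent_le_cent1 b.2.1)).trans (h.bal d b pd b.2))))

theorem not_sol : ¬ Group.IsSolvable (signalizerClosure σ.A X) := fun e => by
  obtain ⟨a, ha, h1⟩ := h.ex
  obtain ⟨K, hK⟩ := (h.semi a ha).exists_cp h1
  exact hK.sp.not_sol (H39.sol_of_le e (hK.le.trans (le_clo ha)))

theorem semi_clo : Semi (signalizerClosure σ.A X) := by
  set W := signalizerClosure σ.A X
  have h1 : fittingOf W = ⊥ := (h.simple (fittingOf_le W) (le_normalizer_fittingOf W)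
    (h.clo_inv.trans (normalizer_le_normalizer_fittingOf W))).resolve_right fun e => h.not_sol (by
      have := isNilpotent_fittingOf W
      rw [e] at this
      infer_instance)
  have h2 : Comp.layerOf W = W := (h.simple (Comp.layerOf_le W)
    (le_normalizer.trans (Comp.normalizer_le_normalizer_layerOf W))
    (h.clo_inv.trans (Comp.normalizer_le_normalizer_layerOf W))).resolve_left fun e => h.not_sol (by
      have : W = ⊥ := Comp.fstarOf_eq_bot_iff.1 (by rw [Comp.fstarOf_eq, e, h1, sup_bot_eq])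
      change Group.IsSolvable W
      rw [this]
      infer_instance)
  exact h2 ▸ semi_layerOf h1

theorem isKGroup : IsKGroup (signalizerClosure σ.A X) := by
  obtain ⟨-, -, W, x, h1, h2, h3, hx, ho⟩ := h.cases
  obtain ⟨P0, p1, p2, p3, p4⟩ := ho.ex
  obtain rfl := (h.simple h1 h2 h3).resolve_left fun e => p1 (le_bot_iff.1 (e ▸ p2))
  obtain ⟨P, hP, p5⟩ := h.semi_clo.exists_cp_le p2 p3 p1
  have hn : x ∉ 𝐍(P) := fun e => hP.sp.nab (p5.trans (p4.trans (centS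
    ((cj_eq_of_mem_normalizer e).ge.trans (cj_mono x p5)))))
  have hz := (zpowers_le.2 hx.1).trans h.clo_inv
  obtain ⟨e, -⟩ := hP.dg_equiv h.semi_clo hz fun y hy => by
    by_cases y1 : y = 1
    · exact y1 ▸ one_mem _
    · exact absurd (zpowers_le.2 hy.2 (hx.mem_zpowers_symm hy.1 y1)) hn
  have hk : IsKGroup P := KG.isKGroup_of_equiv (KG.isKGroup_of_le (h.kg x hx)
    ((hP.dg_le hz).trans (cent_zpowers x ▸ ho.fix))) e
  refine h.semi_clo.isKGroup fun K hK => ?_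
  obtain ⟨g, -, rfl⟩ := hP.tr_of_min hK h.clo_inv fun N => h.simple
  exact KG.isKGroup_of_equiv hk (cjEquiv g P)

end Hyp

end CL.NE
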