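import Cfsg.Agent.SIG.SFMain
import Cfsg.Agent.SIG.NS.KF

/-!
# Signalizer functors without solvability: basic definitions (adapted from `SIG/SFBasic`, `SIG/SFMin`)
-/

open Cfsg CL.MSS CL.BG CL.SF Subgroup
open scoped commutatorElement

set_option linter.unusedSectionVars false

namespace CL.NS

universe u

/-- A signalizer functor on an elementary abelian group of rank at least three; the `A`-invariant
`r'`-subgroups have good simple sections. -/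
structure Sig (G : Type u) [Group G] where
  r : ℕ
  A : Subgroup G
  θ : G → Subgroup G
  prime : r.Prime
  elem : IsElementaryAbelian r A
  rank : r ^ 3 ≤ #|A|
  cent : ∀ a ∈ A, a ≠ 1 → θ a ≤ 𝐂₁(a)
  cop : ∀ a ∈ A, a ≠ 1 → ¬ r ∣ #|θ a|
  inv : ∀ a ∈ A, a ≠ 1 → A ≤ 𝐍(θ a)
  bal : ∀ a ∈ A, a ≠ 1 → ∀ b ∈ A, b ≠ 1 → θ a ⊓ 𝐂₁(b) ≤ θ b
  kf : ∀ X : Subgroup G, ¬ r ∣ #|X| → A ≤ 𝐍(X) → KSec r X

namespace Sig

variable {G : Type u} [Group G] (σ : Sig G)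

/-- a point: a non-identity element of `A`. -/
def Pt (a : G) : Prop := a ∈ σ.A ∧ a ≠ 1

/-- a line: a hyperplane of `A`. -/
def Ln (L : Subgroup G) : Prop := L ≤ σ.A ∧ L.relIndex σ.A = σ.r

/-- `θ`-subgroups. -/
structure Th (X : Subgroup G) : Prop where
  cop : ¬ σ.r ∣ #|X|
  inv : σ.A ≤ 𝐍(X)
  le : ∀ a, σ.Pt a → X ⊓ 𝐂₁(a) ≤ σ.θ a

/-- `θ(B)`. -/
def inf (B : Subgroup G) : Subgroup G := signalizerInf B σ.θ

/-- `θ(A)`. -/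
def C0 : Subgroup G := σ.inf σ.A

/-- `θ` is complete. -/
def Complete : Prop := ∃ K, σ.Th K ∧ ∀ a, σ.Pt a → σ.θ a ≤ K

/-- a minimal counterexample. -/
structure Min : Prop where
  card : #|σ.A| = σ.r ^ 3
  notc : ¬ σ.Complete
  sub : ∀ τ : Sig G, τ.r = σ.r → τ.A = σ.A → (∀ a, σ.Pt a → τ.θ a ≤ σ.θ a) →
    (∃ a, σ.Pt a ∧ τ.θ a ≠ σ.θ a) → τ.Complete
  quo : ∀ X, σ.Th X → X ≠ ⊥ → ∃ a, σ.Pt a ∧ ¬ σ.θ a ≤ 𝐍(X)

/-- the join of the `θ`-subgroups of `H`. -/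
def cl (H : Subgroup G) : Subgroup G := sSup {Y | σ.Th Y ∧ Y ≤ H}

variable [Finite G] {σ} {a b c x y e : G} {X Y H K B L L' : Subgroup G} {p q : ℕ}

theorem Pt.mem (h : σ.Pt a) : a ∈ σ.A := h.1
theorem Pt.ne (h : σ.Pt a) : a ≠ 1 := h.2
theorem Ln.le (h : σ.Ln L) : L ≤ σ.A := h.1
theorem Ln.pt (h : σ.Ln L) (hx : x ∈ L) (h1 : x ≠ 1) : σ.Pt x := ⟨h.1 hx, h1⟩
theorem pt_of_not_mem (ha : a ∈ σ.A) (h : a ∉ H) : σ.Pt a := ⟨ha, fun e => h (e ▸ one_mem H)⟩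

theorem comm (σ : Sig G) : IsMulCommutative σ.A := σ.elem.1
theorem A_le_cent (h : B ≤ σ.A) : σ.A ≤ 𝐂(B) := le_cent_of_le_abelian σ.comm le_rfl h
theorem A_le_cent1 (h : a ∈ σ.A) : σ.A ≤ 𝐂₁(a) := (A_le_cent le_rfl).trans (cent_le_cent1 h)
theorem A_le_norm (h : B ≤ σ.A) : σ.A ≤ 𝐍(B) := le_norm_of_le_cent (A_le_cent h)
theorem A_le_norm_zpowers (h : a ∈ σ.A) : σ.A ≤ 𝐍(zpowers a) := A_le_norm (zpowers_le.2 h)
theorem A_le_norm_cent (h : B ≤ σ.A) : σ.A ≤ 𝐍(𝐂(B)) := le_normalizer_centralizer (A_le_norm h)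
theorem A_le_norm_cent1 (h : a ∈ σ.A) : σ.A ≤ 𝐍(𝐂₁(a)) := (A_le_cent1 h).trans le_normalizer
theorem A_pgroup (σ : Sig G) : IsPGroup σ.r σ.A := CL.Th.elemAb_isPGroup σ.elem

theorem Pt.orderOf (h : σ.Pt a) : orderOf a = σ.r :=
  have := Fact.mk σ.prime
  orderOf_eq_prime (σ.elem.2 a h.1) h.2

theorem Pt.card_zpowers (h : σ.Pt a) : #|zpowers a| = σ.r := by rw [Nat.card_zpowers, h.orderOf]

theorem Pt.zpowers_eq (h : σ.Pt a) (hb : b ∈ zpowers a) (h1 : b ≠ 1) : zpowers b = zpowers a :=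
  (eq_zpowers_of_card_prime (h.card_zpowers ▸ σ.prime) hb h1).symm

theorem Pt.of_mem_zpowers (h : σ.Pt a) (hb : b ∈ zpowers a) (h1 : b ≠ 1) : σ.Pt b :=
  ⟨zpowers_le.2 h.1 hb, h1⟩

theorem Pt.cent1_eq (h : σ.Pt a) (hb : b ∈ zpowers a) (h1 : b ≠ 1) : 𝐂₁(b) = 𝐂₁(a) := by
  rw [← cent_zpowers, ← cent_zpowers, h.zpowers_eq hb h1]

theorem Pt.mem_zpowers_symm (h : σ.Pt a) (hb : b ∈ zpowers a) (h1 : b ≠ 1) : a ∈ zpowers b := by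
  rw [h.zpowers_eq hb h1]; exact mem_zpowers a

theorem Pt.θ_le_cent (h : σ.Pt a) : σ.θ a ≤ 𝐂₁(a) := σ.cent a h.1 h.2
theorem Pt.θ_le_cent_zpowers (h : σ.Pt a) : σ.θ a ≤ 𝐂(zpowers a) := by
  rw [cent_zpowers]; exact h.θ_le_cent
theorem Pt.θ_le_norm_zpowers (h : σ.Pt a) : σ.θ a ≤ 𝐍(zpowers a) :=
  le_norm_of_le_cent h.θ_le_cent_zpowers

theorem Pt.th (h : σ.Pt a) : σ.Th (σ.θ a) :=
  ⟨σ.cop a h.1 h.2, σ.inv a h.1 h.2, fun b hb => σ.bal a h.1 h.2 b hb.1 hb.2⟩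

theorem Pt.θ_eq (h : σ.Pt a) (hb : b ∈ zpowers a) (h1 : b ≠ 1) : σ.θ b = σ.θ a := by
  have hb' := h.of_mem_zpowers hb h1
  apply le_antisymm
  · exact (le_inf le_rfl (h.cent1_eq hb h1 ▸ hb'.θ_le_cent)).trans (hb'.th.le a h)
  · exact (le_inf le_rfl ((h.cent1_eq hb h1).symm ▸ h.θ_le_cent)).trans (h.th.le b hb')

theorem Th.mem_norm (h : σ.Th X) (ha : a ∈ σ.A) : a ∈ 𝐍(X) := h.inv ha
theorem Th.zpowers_le_norm (h : σ.Th X) (ha : a ∈ σ.A) : zpowers a ≤ 𝐍(X) :=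
  zpowers_le.2 (h.inv ha)
theorem Th.le_θ (h : σ.Th X) (ha : σ.Pt a) (hc : X ≤ 𝐂₁(a)) : X ≤ σ.θ a :=
  (le_inf le_rfl hc).trans (h.le a ha)

theorem Th.sub (h : σ.Th X) (hY : Y ≤ X) (hA : σ.A ≤ 𝐍(Y)) : σ.Th Y :=
  ⟨fun hd => h.cop (hd.trans (card_dvd_of_le hY)), hA,
    fun a ha => (inf_le_inf_right _ hY).trans (h.le a ha)⟩

theorem Th.inf_left (h : σ.Th X) (hA : σ.A ≤ 𝐍(Y)) : σ.Th (X ⊓ Y) :=
  h.sub inf_le_left (le_normalizer_inf h.inv hA)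
theorem Th.inf_right (h : σ.Th X) (hA : σ.A ≤ 𝐍(Y)) : σ.Th (Y ⊓ X) :=
  h.sub inf_le_right (le_normalizer_inf hA h.inv)
theorem Th.inf_cent (h : σ.Th X) (hA : σ.A ≤ 𝐍(Y)) : σ.Th (X ⊓ 𝐂(Y)) :=
  h.inf_left (le_normalizer_centralizer hA)
theorem Th.inf_norm (h : σ.Th X) (hA : σ.A ≤ 𝐍(Y)) : σ.Th (X ⊓ 𝐍(Y)) :=
  h.inf_left (le_normalizer_normalizer hA)
theorem Th.inf_cent1 (h : σ.Th X) (ha : a ∈ σ.A) : σ.Th (X ⊓ 𝐂₁(a)) :=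
  h.inf_left (A_le_norm_cent1 ha)
theorem Th.center (h : σ.Th X) : σ.Th (X ⊓ 𝐂(X)) := h.inf_cent h.inv
theorem Th.comm_left (h : σ.Th X) (hA : σ.A ≤ 𝐍(Y)) (hY : Y ≤ 𝐍(X)) : σ.Th ⁅X, Y⁆ :=
  h.sub (commutator_le_left_of_normalizes hY) (le_normalizer_commutator h.inv hA)
theorem Th.comm_zpowers (h : σ.Th X) (ha : a ∈ σ.A) : σ.Th ⁅X, zpowers a⁆ :=
  h.comm_left (A_le_norm_zpowers ha) (h.zpowers_le_norm ha)

theorem th_bot (σ : Sig G) : σ.Th ⊥ :=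
  ⟨by simpa using σ.prime.one_lt.ne', le_norm_bot _, fun _ _ => by simp⟩

theorem inf_le_θ (hb : b ∈ B) (h1 : b ≠ 1) : σ.inf B ≤ σ.θ b :=
  iInf_le (fun a : {a : G // a ∈ B ∧ a ≠ 1} => σ.θ a) ⟨b, hb, h1⟩

theorem le_inf_iff' : X ≤ σ.inf B ↔ ∀ b ∈ B, b ≠ 1 → X ≤ σ.θ b := by
  simp [Sig.inf, signalizerInf]

theorem inf_anti (h : B ≤ L) : σ.inf L ≤ σ.inf B :=
  le_inf_iff'.2 fun _ hb h1 => inf_le_θ (h hb) h1

theorem inf_le_cent (hB : B ≤ σ.A) : σ.inf B ≤ 𝐂(B) := fun x hx =>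
  mem_cent_iff.2 fun b hb => by
    by_cases h1 : b = 1
    · simp [h1]
    · exact (mem_cent1_iff.1 (σ.cent b (hB hb) h1 (inf_le_θ hb h1 hx))).symm

theorem inf_le_cent1 (hB : B ≤ σ.A) (hb : b ∈ B) : σ.inf B ≤ 𝐂₁(b) :=
  (inf_le_cent hB).trans (cent_le_cent1 hb)

theorem Th.inf_cent_le (h : σ.Th X) (hB : B ≤ σ.A) : X ⊓ 𝐂(B) ≤ σ.inf B :=
  le_inf_iff'.2 fun b hb h1 => (inf_le_inf_left _ (cent_le_cent1 hb)).trans (h.le b ⟨hB hb, h1⟩)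

theorem Th.le_inf (h : σ.Th X) (hB : B ≤ σ.A) (hc : X ≤ 𝐂(B)) : X ≤ σ.inf B :=
  (_root_.le_inf le_rfl hc).trans (h.inf_cent_le hB)

theorem inf_eq (hB : B ≤ σ.A) (hb : b ∈ B) (h1 : b ≠ 1) : σ.inf B = σ.θ b ⊓ 𝐂(B) :=
  le_antisymm (le_inf (inf_le_θ hb h1) (inf_le_cent hB)) ((Pt.th ⟨hB hb, h1⟩).inf_cent_le hB)

theorem th_inf (hB : B ≤ σ.A) (h1 : B ≠ ⊥) : σ.Th (σ.inf B) := by
  obtain ⟨b, hb, hb1⟩ := exists_mem_ne_one h1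
  rw [inf_eq hB hb hb1]
  exact (Pt.th ⟨hB hb, hb1⟩).inf_cent (A_le_norm hB)

theorem C0_le_inf (hB : B ≤ σ.A) : σ.C0 ≤ σ.inf B := inf_anti hB
theorem Pt.C0_le (h : σ.Pt a) : σ.C0 ≤ σ.θ a := inf_le_θ h.1 h.2
theorem C0_le_cent (σ : Sig G) : σ.C0 ≤ 𝐂(σ.A) := inf_le_cent le_rfl
theorem C0_le_cent' (hB : B ≤ σ.A) : σ.C0 ≤ 𝐂(B) := σ.C0_le_cent.trans (centS hB)
theorem C0_le_cent1 (ha : a ∈ σ.A) : σ.C0 ≤ 𝐂₁(a) := inf_le_cent1 le_rfl ha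
theorem C0_le_norm_zpowers (ha : a ∈ σ.A) : σ.C0 ≤ 𝐍(zpowers a) :=
  le_norm_of_le_cent (C0_le_cent' (zpowers_le.2 ha))
theorem Th.inf_centA_le (h : σ.Th X) : X ⊓ 𝐂(σ.A) ≤ σ.C0 := h.inf_cent_le le_rfl
theorem Th.le_C0 (h : σ.Th X) (hc : X ≤ 𝐂(σ.A)) : X ≤ σ.C0 := h.le_inf le_rfl hc

theorem Th.cj (h : σ.Th X) (hc : c ∈ σ.C0) : σ.Th (c •ᶜ X) := by
  have hcA : c ∈ 𝐂(σ.A) := σ.C0_le_cent hc
  refine ⟨by rw [card_cj]; exact h.cop, ?_, fun a ha => ?_⟩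
  · rw [← cj_normalizer, ← cj_eq_of_mem_centralizer hcA]; exact cj_mono c h.inv
  · have e1 : c •ᶜ 𝐂₁(a) = 𝐂₁(a) := cj_eq_of_mem (C0_le_cent1 ha.1 hc)
    rw [← e1, ← cj_inf]
    exact cj_le_of_mem (h.le a ha) (ha.C0_le hc)

theorem A_sol (σ : Sig G) : Group.IsSolvable σ.A :=
  have := Fact.mk σ.prime
  H39.sol_pgroup σ.A_pgroup

theorem sol_of_le_A (h : B ≤ σ.A) : Group.IsSolvable B := H39.sol_of_le σ.A_sol h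
theorem sol_zpowers (h : a ∈ σ.A) : Group.IsSolvable (zpowers a) := sol_of_le_A (zpowers_le.2 h)

theorem coprime_of_not_dvd (hB : B ≤ σ.A) (h : ¬ σ.r ∣ #|X|) : (#|B|).Coprime #|X| :=
  have := Fact.mk σ.prime
  coprime_of_isPGroup_of_not_dvd (σ.A_pgroup.to_le hB) h

theorem Th.coprime (h : σ.Th X) (hB : B ≤ σ.A) : (#|B|).Coprime #|X| := coprime_of_not_dvd hB h.cop
theorem Th.coprime_zpowers (h : σ.Th X) (ha : a ∈ σ.A) : (#|zpowers a|).Coprime #|X| :=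
  h.coprime (zpowers_le.2 ha)

theorem Th.core (h : σ.Th X) (π : Set ℕ) : σ.Th (piCoreOf π X) :=
  h.sub (pcore_sub π X) (h.inv.trans (pcore_char π X))

theorem Th.comm_comm (h : σ.Th X) (ha : a ∈ σ.A) :
    ⁅⁅X, zpowers a⁆, zpowers a⁆ = ⁅X, zpowers a⁆ :=
  coprime_commutator_commutator _ _ (h.zpowers_le_norm ha) (h.coprime_zpowers ha) (Or.inl (sol_zpowers ha))

theorem Th.comm_sup_cent (h : σ.Th X) (ha : a ∈ σ.A) : ⁅X, zpowers a⁆ ⊔ (X ⊓ 𝐂₁(a)) = X := by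
  rw [← cent_zpowers]
  exact coprime_commutator_sup_centralizer _ _ (h.zpowers_le_norm ha) (h.coprime_zpowers ha)
    (Or.inl (sol_zpowers ha))

theorem Th.comm_eq_of_fpf (h : σ.Th X) (ha : a ∈ σ.A) (hc : X ⊓ 𝐂₁(a) = ⊥) :
    ⁅X, zpowers a⁆ = X := by
  have := h.comm_sup_cent ha
  rwa [hc, sup_bot_eq] at this

theorem comm_zpowers_eq_bot_iff : ⁅X, zpowers a⁆ = ⊥ ↔ X ≤ 𝐂₁(a) := by
  rw [comm_eq_bot_iff, cent_zpowers]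

theorem Th.le_cent1_of_comm_le (h : σ.Th X) (ha : a ∈ σ.A) (hc : ⁅X, zpowers a⁆ ≤ 𝐂₁(a)) :
    X ≤ 𝐂₁(a) := by
  rw [← comm_zpowers_eq_bot_iff, ← h.comm_comm ha, comm_zpowers_eq_bot_iff]; exact hc

theorem Th.sup (hX : σ.Th X) (hY : σ.Th Y) (h : Y ≤ 𝐍(X)) : σ.Th (X ⊔ Y) := by
  refine ⟨fun hd => ?_, le_normalizer_sup hX.inv hY.inv, fun a ha => ?_⟩
  · rcases (prodEq_sup h).dvd_or_dvd σ.prime hd with h1 | h1
    exacts [hX.cop h1, hY.cop h1]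
  · rw [← cent_zpowers]
    refine (sup_inf_cent_le h (hX.zpowers_le_norm ha.1) (hY.zpowers_le_norm ha.1)
      (hX.coprime_zpowers ha.1) (sol_zpowers ha.1)).trans ?_
    rw [cent_zpowers]
    exact sup_le (hX.le a ha) (hY.le a ha)

theorem Th.sup' (hX : σ.Th X) (hY : σ.Th Y) (h : X ≤ 𝐍(Y)) : σ.Th (X ⊔ Y) :=
  sup_comm Y X ▸ hY.sup hX h

/-! ### the geometry of `A` -/

theorem one_lt_r (σ : Sig G) : 1 < σ.r := σ.prime.one_lt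

theorem A_ne_bot (σ : Sig G) : σ.A ≠ ⊥ := fun h => by
  have := σ.rank
  rw [h, card_bot] at this
  exact absurd (Nat.one_lt_pow (by norm_num : 3 ≠ 0) σ.one_lt_r) (not_lt.2 this)

theorem th_C0 (σ : Sig G) : σ.Th σ.C0 := th_inf le_rfl σ.A_ne_bot

theorem exists_pt (σ : Sig G) : ∃ a, σ.Pt a := exists_mem_ne_one σ.A_ne_bot

theorem Ln.card_mul (h : σ.Ln L) : #|L| * σ.r = #|σ.A| := by
  rw [← h.2]; exact card_mul_relIndex_of_le h.1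

theorem Ln.sq_le (h : σ.Ln L) : σ.r ^ 2 ≤ #|L| := by
  have := σ.rank
  rw [← h.card_mul, pow_succ] at this
  exact Nat.le_of_mul_le_mul_right this σ.prime.pos

theorem not_cyclic_of_sq_le (hB : B ≤ σ.A) (h : σ.r ^ 2 ≤ #|B|) : ¬ IsCyclic B := by
  intro hc
  have h1 : Monoid.exponent B ∣ σ.r :=
    Monoid.exponent_dvd_of_forall_pow_eq_one fun x => Subtype.ext (σ.elem.2 x (hB x.2))
  rw [IsCyclic.exponent_eq_card] at h1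
  have := Nat.le_of_dvd σ.prime.pos h1
  have h2 := σ.one_lt_r
  nlinarith

theorem Ln.not_cyclic (h : σ.Ln L) : ¬ IsCyclic L := not_cyclic_of_sq_le h.1 h.sq_le

theorem A_not_cyclic (σ : Sig G) : ¬ IsCyclic σ.A :=
  not_cyclic_of_sq_le le_rfl ((Nat.pow_le_pow_right σ.prime.pos (by norm_num)).trans σ.rank)

theorem Ln.ne_bot (h : σ.Ln L) : L ≠ ⊥ := by
  rintro rfl
  exact h.not_cyclic inferInstance

theorem Ln.not_le_zpowers (h : σ.Ln L) (x : G) : ¬ L ≤ zpowers x := fun hle =>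
  h.not_cyclic (cyclicS inferInstance hle)

theorem Ln.exists_not_mem_zpowers (h : σ.Ln L) (x : G) : ∃ y ∈ L, y ∉ zpowers x :=
  SetLike.not_le_iff_exists.1 (h.not_le_zpowers x)

theorem Ln.th (h : σ.Ln L) : σ.Th (σ.inf L) := th_inf h.1 h.ne_bot

theorem Ln.ne_A (h : σ.Ln L) : L ≠ σ.A := by
  rintro rfl
  have := h.2
  rw [relIndex_self] at this
  exact σ.one_lt_r.ne this

theorem Ln.exists_not_mem (h : σ.Ln L) : ∃ a ∈ σ.A, a ∉ L :=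
  SetLike.not_le_iff_exists.1 fun hle => h.ne_A (le_antisymm h.1 hle)

/-- two lines meet. -/
theorem Ln.meet (h : σ.Ln L) (h' : σ.Ln L') : ∃ x, σ.Pt x ∧ x ∈ L ∧ x ∈ L' := by
  have hne : L ⊓ L' ≠ ⊥ := by
    intro hb
    have h1 := card_mul_le_card_mul_card_inf h.1 h'.1
    rw [hb, card_bot, mul_one, ← h.card_mul] at h1
    have h2 := Nat.le_of_mul_le_mul_left h1 (card_pos' L)
    have h3 := h'.sq_le
    have h4 := σ.one_lt_r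
    nlinarith
  obtain ⟨x, hx, h1⟩ := exists_mem_ne_one hne
  exact ⟨x, h.pt hx.1 h1, hx.1, hx.2⟩

/-- a line is a maximal subgroup of `A`. -/
theorem Ln.eq_or_eq (h : σ.Ln L) (h1 : L ≤ H) (h2 : H ≤ σ.A) : H = L ∨ H = σ.A := by
  have := relIndex_mul' h1 h2
  rw [h.2] at this
  rcases (Nat.dvd_prime σ.prime).1 ⟨_, this.symm⟩ with e | e
  · exact Or.inl (eq_of_le_of_relIndex_eq_one h1 e).symm
  · rw [e] at this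
    exact Or.inr (eq_of_le_of_relIndex_eq_one h2 (by simpa [σ.prime.ne_zero] using this))

theorem Ln.sup_zpowers (h : σ.Ln L) (ha : a ∈ σ.A) (hn : a ∉ L) : L ⊔ zpowers a = σ.A :=
  (h.eq_or_eq le_sup_left (sup_le h.1 (zpowers_le.2 ha))).resolve_left fun e =>
    hn (e ▸ mem_sup_right (mem_zpowers a))

theorem Ln.A_le (h : σ.Ln L) (ha : a ∈ σ.A) (hn : a ∉ L) (h1 : L ≤ H) (h2 : a ∈ H) : σ.A ≤ H :=
  h.sup_zpowers ha hn ▸ sup_le h1 (zpowers_le.2 h2)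

theorem Ln.le_centA (h : σ.Ln L) (ha : a ∈ σ.A) (hn : a ∉ L) (h1 : X ≤ 𝐂(L)) (h2 : X ≤ 𝐂₁(a)) :
    X ≤ 𝐂(σ.A) := cent_symm (h.A_le ha hn (cent_symm h1) (le_cent1_iff.1 h2))

theorem Ln.eq_of_le (h : σ.Ln L) (h' : σ.Ln L') (hle : L ≤ L') : L = L' :=
  ((h.eq_or_eq hle h'.1).resolve_right h'.ne_A).symm

/-! ### generation -/

theorem le_of_ln (hA : σ.A ≤ 𝐍(X)) (hc : ¬ σ.r ∣ #|X|)
    (h : ∀ L, σ.Ln L → X ⊓ 𝐂(L) ≤ H) : X ≤ H :=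
  have := σ.comm
  coprime_le_of_forall_hyperplane σ.A X H σ.prime σ.elem.2 σ.A_ne_bot hA
    (coprime_of_not_dvd le_rfl hc) fun B h1 h2 => h B ⟨h1, h2⟩

theorem Th.le_of_ln (hX : σ.Th X) (h : ∀ L, σ.Ln L → X ⊓ 𝐂(L) ≤ H) : X ≤ H :=
  Sig.le_of_ln hX.inv hX.cop h

theorem le_of_noncyclic (hB : B ≤ σ.A) (hB2 : ¬ IsCyclic B) (hA : B ≤ 𝐍(X)) (hc : ¬ σ.r ∣ #|X|)
    (h : ∀ x ∈ B, x ≠ 1 → X ⊓ 𝐂₁(x) ≤ H) : X ≤ H :=
  have := abelianS σ.comm hB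
  coprime_le_of_forall_centralizer_le B X H hB2 hA (coprime_of_not_dvd hB hc) h

theorem Th.le_of_pt_ln (hX : σ.Th X) (hL : σ.Ln L)
    (h : ∀ x ∈ L, x ≠ 1 → X ⊓ 𝐂₁(x) ≤ H) : X ≤ H :=
  le_of_noncyclic hL.1 hL.not_cyclic (hL.1.trans hX.inv) hX.cop h

theorem Th.le_of_pt (hX : σ.Th X) (h : ∀ x, σ.Pt x → X ⊓ 𝐂₁(x) ≤ H) : X ≤ H :=
  le_of_noncyclic le_rfl σ.A_not_cyclic hX.inv hX.cop fun x h1 h2 => h x ⟨h1, h2⟩

theorem Th.le_of_θ_le (hX : σ.Th X) (h : ∀ x, σ.Pt x → σ.θ x ≤ H) : X ≤ H :=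
  hX.le_of_pt fun x hx => (hX.le x hx).trans (h x hx)

theorem Th.le_of_inf_le (hX : σ.Th X) (h : ∀ L, σ.Ln L → σ.inf L ≤ H) : X ≤ H :=
  hX.le_of_ln fun L hL => (hX.inf_cent_le hL.1).trans (h L hL)

theorem Th.exists_ln (hX : σ.Th X) (h1 : X ≠ ⊥) : ∃ L, σ.Ln L ∧ X ⊓ 𝐂(L) ≠ ⊥ := by
  by_contra! h
  exact h1 (le_bot_iff.1 (hX.le_of_ln fun L hL => (h L hL).le))

theorem Th.exists_pt_ln (hX : σ.Th X) (h1 : X ≠ ⊥) (hL : σ.Ln L) :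
    ∃ x ∈ L, x ≠ 1 ∧ X ⊓ 𝐂₁(x) ≠ ⊥ := by
  by_contra! h
  exact h1 (le_bot_iff.1 (hX.le_of_pt_ln hL fun x hx h1 => (h x hx h1).le))

theorem Th.exists_inv_syl (hX : σ.Th X) (q : ℕ) [Fact q.Prime] : ∃ S, SylIn q S X ∧ σ.Th S := by
  obtain ⟨S, h1, h2⟩ := H39.exists_inv_sylIn hX.inv (hX.coprime le_rfl).symm (Or.inl σ.A_sol) q
  exact ⟨S, h1, hX.sub h1.le h2⟩

theorem Th.exists_inv_syl_ge (hX : σ.Th X) [Fact q.Prime] (hY : Y ≤ X) (hq : IsPGroup q Y)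
    (hA : σ.A ≤ 𝐍(Y)) : ∃ S, SylIn q S X ∧ Y ≤ S ∧ σ.Th S := by
  obtain ⟨S, h1, h2, h3⟩ :=
    H39.exists_inv_sylIn_ge hX.inv (hX.coprime le_rfl).symm (Or.inl σ.A_sol) hY hq hA
  exact ⟨S, h1, h2, hX.sub h1.le h3⟩

theorem Th.piGrp_of_pt {π : Set ℕ} (hX : σ.Th X) (h : ∀ a, σ.Pt a → PiGrp π (X ⊓ 𝐂₁(a))) :
    PiGrp π X := by
  intro q hq hd
  have := Fact.mk hq
  obtain ⟨S, hS, hS'⟩ := hX.exists_inv_syl q
  by_contra hπ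
  refine hS.ne_bot hd (le_bot_iff.1 (hS'.le_of_pt fun a ha => le_bot_iff.2 ?_))
  exact PiGrp.eq_bot ((h a ha).of_le (inf_le_inf_right _ hS.le))
    (piGrp_compl_of_isPGroup (hS.pgroup.to_le inf_le_left) hπ)

/-! ### geometry in rank three -/

theorem Min.card_ln (h : σ.Min) (hL : σ.Ln L) : #|L| = σ.r ^ 2 := by
  have := hL.card_mul
  rw [h.card, pow_succ] at this
  exact Nat.eq_of_mul_eq_mul_right σ.prime.pos this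

theorem Min.ln_of_card (h : σ.Min) (hL : L ≤ σ.A) (hc : #|L| = σ.r ^ 2) : σ.Ln L := by
  have := card_mul_relIndex_of_le hL
  rw [h.card, hc, pow_succ _ 2] at this
  exact ⟨hL, Nat.eq_of_mul_eq_mul_left (pow_pos σ.prime.pos 2) this⟩

theorem Pt.zpowers_inf_eq_bot (hb : σ.Pt b) (hn : b ∉ H) : H ⊓ zpowers b = ⊥ := by
  rw [inf_comm]
  exact inf_eq_bot_of_card_prime_of_not_le (hb.card_zpowers ▸ σ.prime) (by simpa using hn)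

/-- two independent points span a line. -/
theorem Min.ln_sup (h : σ.Min) (ha : σ.Pt a) (hb : b ∈ σ.A) (hn : b ∉ zpowers a) :
    σ.Ln (zpowers a ⊔ zpowers b) := by
  have hb' : σ.Pt b := pt_of_not_mem hb hn
  refine h.ln_of_card (sup_le (zpowers_le.2 ha.1) (zpowers_le.2 hb)) ?_
  rw [card_sup_of_disjoint ((zpowers_le.2 ha.1).trans (A_le_norm_zpowers hb))
    (hb'.zpowers_inf_eq_bot hn), ha.card_zpowers, hb'.card_zpowers, sq]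

theorem Min.ln_eq_sup (h : σ.Min) (hL : σ.Ln L) (ha : a ∈ L) (h1 : a ≠ 1) (hb : b ∈ L)
    (hn : b ∉ zpowers a) : zpowers a ⊔ zpowers b = L :=
  (h.ln_sup (hL.pt ha h1) (hL.1 hb) hn).eq_of_le hL (sup_le (zpowers_le.2 ha) (zpowers_le.2 hb))

/-- a subgroup containing two independent points of a line contains the line. -/
theorem Min.ln_le (h : σ.Min) (hL : σ.Ln L) (ha : a ∈ L) (h1 : a ≠ 1) (hb : b ∈ L)
    (hn : b ∉ zpowers a) (haH : a ∈ H) (hbH : b ∈ H) : L ≤ H :=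
  h.ln_eq_sup hL ha h1 hb hn ▸ sup_le (zpowers_le.2 haH) (zpowers_le.2 hbH)

/-- two distinct lines meet in one projective point. -/
theorem Min.mem_zpowers_of_ne (h : σ.Min) (hL : σ.Ln L) (hL' : σ.Ln L') (hne : L ≠ L')
    (hx : x ∈ L) (hx' : x ∈ L') (h1 : x ≠ 1) (hy : y ∈ L) (hy' : y ∈ L') : y ∈ zpowers x := by
  by_contra hn
  exact hne (hL.eq_of_le hL' (h.ln_le hL hx h1 hy hn hx' hy'))

/-- a second line through a point. -/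
theorem Min.exists_ln_ne (h : σ.Min) (hL : σ.Ln L) (he : σ.Pt e) :
    ∃ L', σ.Ln L' ∧ e ∈ L' ∧ L' ≠ L := by
  by_cases heL : e ∈ L
  · obtain ⟨a, ha, hn⟩ := hL.exists_not_mem
    exact ⟨_, h.ln_sup he ha fun hz => hn (zpowers_le.2 heL hz), mem_sup_left (mem_zpowers e),
      fun e' => hn (e' ▸ mem_sup_right (mem_zpowers a))⟩
  · obtain ⟨a, ha, hn⟩ := hL.exists_not_mem_zpowers e
    exact ⟨_, h.ln_sup he (hL.1 ha) hn, mem_sup_left (mem_zpowers e),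
      fun e' => heL (e' ▸ mem_sup_left (mem_zpowers e))⟩

/-- a proper subgroup of `A` lies in a line. -/
theorem Min.exists_ln_ge (h : σ.Min) (hB : B ≤ σ.A) (hne : B ≠ σ.A) : ∃ L, σ.Ln L ∧ B ≤ L := by
  have key : ∀ a, σ.Pt a → ∃ L, σ.Ln L ∧ zpowers a ≤ L := by
    intro a ha
    obtain ⟨b, hb, hn⟩ : ∃ b ∈ σ.A, b ∉ zpowers a := SetLike.not_le_iff_exists.1 fun hle =>
      σ.A_not_cyclic (cyclicS inferInstance hle)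
    exact ⟨_, h.ln_sup ha hb hn, le_sup_left⟩
  by_cases h1 : B = ⊥
  · obtain ⟨a, ha⟩ := σ.exists_pt
    obtain ⟨L, hL, -⟩ := key a ha
    exact ⟨L, hL, h1 ▸ bot_le⟩
  obtain ⟨a, ha, ha1⟩ := exists_mem_ne_one h1
  by_cases h2 : B ≤ zpowers a
  · obtain ⟨L, hL, hle⟩ := key a ⟨hB ha, ha1⟩
    exact ⟨L, hL, h2.trans hle⟩
  obtain ⟨b, hb, hn⟩ := SetLike.not_le_iff_exists.1 h2
  have hL := h.ln_sup ⟨hB ha, ha1⟩ (hB hb) hn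
  exact ⟨_, hL, ((hL.eq_or_eq (sup_le (zpowers_le.2 ha) (zpowers_le.2 hb)) hB).resolve_right
    hne).le⟩

/-- a line has at least three projective points. -/
theorem Ln.exists_third (hL : σ.Ln L) (x y : G) :
    ∃ z ∈ L, z ∉ zpowers x ∧ z ∉ zpowers y := by
  obtain ⟨u, hu, hux⟩ := hL.exists_not_mem_zpowers x
  obtain ⟨v, hv, hvy⟩ := hL.exists_not_mem_zpowers y
  by_cases h1 : u ∈ zpowers y
  · by_cases h2 : v ∈ zpowers x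
    · exact ⟨u * v, mul_mem hu hv, fun h => hux ((mul_mem_cancel_right h2).1 h),
        fun h => hvy ((mul_mem_cancel_left h1).1 h)⟩
    · exact ⟨v, hv, h2, hvy⟩
  · exact ⟨u, hu, hux, h1⟩

/-! ### closure -/

theorem Th.le_cl (hY : σ.Th Y) (h : Y ≤ H) : Y ≤ σ.cl H := le_sSup ⟨hY, h⟩
theorem cl_le (σ : Sig G) (H : Subgroup G) : σ.cl H ≤ H := sSup_le fun _ h => h.2
theorem cl_mono (h : H ≤ K) : σ.cl H ≤ σ.cl K := sSup_le fun _ hY => hY.1.le_cl (hY.2.trans h)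

/-- the subfunctor `a ↦ θ a ∩ H`. -/
def restrict (σ : Sig G) (H : Subgroup G) (hH : σ.A ≤ 𝐍(H)) : Sig G :=
  { σ with
    θ := fun a => σ.θ a ⊓ H
    cent := fun a h1 h2 => inf_le_left.trans (σ.cent a h1 h2)
    cop := fun _ h1 h2 => ((Pt.th ⟨h1, h2⟩).inf_left hH).cop
    inv := fun _ h1 h2 => ((Pt.th ⟨h1, h2⟩).inf_left hH).inv
    bal := fun a h1 h2 b h3 h4 => le_inf
      ((inf_le_inf_right _ inf_le_left).trans (σ.bal a h1 h2 b h3 h4))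
      (inf_le_left.trans inf_le_right) }

theorem Min.th_cl (h : σ.Min) (hH : σ.A ≤ 𝐍(H)) (hn : ∃ a, σ.Pt a ∧ ¬ σ.θ a ≤ H) :
    σ.Th (σ.cl H) := by
  obtain ⟨K, hK, hle⟩ := h.sub (σ.restrict H hH) rfl rfl (fun a _ => inf_le_left)
    (hn.imp fun a ha => ⟨ha.1, fun e => ha.2 (inf_eq_left.1 e)⟩)
  have hK' : σ.Th K := ⟨hK.cop, hK.inv, fun a ha => (hK.le a ha).trans inf_le_left⟩
  have : σ.cl H = K := by
    refine le_antisymm (sSup_le fun Y hY => hY.1.le_of_pt fun a ha => ?_)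
      (hK'.le_cl (hK'.le_of_pt fun a ha => (hK.le a ha).trans inf_le_right))
    exact (le_inf (hY.1.le a ha) (inf_le_left.trans hY.2)).trans (hle a ha)
  rwa [this]

theorem Min.th_cl_norm (h : σ.Min) (hX : σ.Th X) (h1 : X ≠ ⊥) : σ.Th (σ.cl 𝐍(X)) :=
  h.th_cl (le_normalizer_normalizer hX.inv) (h.quo X hX h1)

theorem Min.th_cl_cent (h : σ.Min) (hX : σ.Th X) (h1 : X ≠ ⊥) : σ.Th (σ.cl 𝐂(X)) :=
  h.th_cl (le_normalizer_centralizer hX.inv)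
    ((h.quo X hX h1).imp fun _ ha => ⟨ha.1, fun hle => ha.2 (hle.trans (cent_le_norm X))⟩)


/-- subfunctors. -/
def subfun (σ : Sig G) (τ : G → Subgroup G) (hle : ∀ a, σ.Pt a → τ a ≤ σ.θ a)
    (hinv : ∀ a, σ.Pt a → σ.A ≤ 𝐍(τ a))
    (hbal : ∀ a b, σ.Pt a → σ.Pt b → τ a ⊓ 𝐂₁(b) ≤ τ b) : Sig G :=
  { σ with
    θ := τ
    cent := fun a h1 h2 => (hle a ⟨h1, h2⟩).trans (σ.cent a h1 h2)
    cop := fun a h1 h2 => ((Pt.th ⟨h1, h2⟩).sub (hle a ⟨h1, h2⟩) (hinv a ⟨h1, h2⟩)).cop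
    inv := fun a h1 h2 => hinv a ⟨h1, h2⟩
    bal := fun a h1 h2 b h3 h4 => hbal a b ⟨h1, h2⟩ ⟨h3, h4⟩ }

theorem Min.th_of_sub (h : σ.Min) (τ : G → Subgroup G) (hle : ∀ a, σ.Pt a → τ a ≤ σ.θ a)
    (hinv : ∀ a, σ.Pt a → σ.A ≤ 𝐍(τ a))
    (hbal : ∀ a b, σ.Pt a → σ.Pt b → τ a ⊓ 𝐂₁(b) ≤ τ b) (hne : ∃ a, σ.Pt a ∧ τ a ≠ σ.θ a) :
    ∃ T, σ.Th T ∧ ∀ a, σ.Pt a → T ⊓ 𝐂₁(a) = τ a := by
  obtain ⟨T, hT, hle'⟩ := h.sub (σ.subfun τ hle hinv hbal) rfl rfl hle hne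
  refine ⟨T, ⟨hT.cop, hT.inv, fun a ha => (hT.le a ha).trans (hle a ha)⟩, fun a ha => ?_⟩
  exact le_antisymm (hT.le a ha) (_root_.le_inf (hle' a ha) ((hle a ha).trans ha.θ_le_cent))

theorem Min.exists_nonsol (h : σ.Min) : ∃ a, σ.Pt a ∧ ¬ Group.IsSolvable (σ.θ a) := by
  by_contra! hs
  obtain ⟨K, hK, hle⟩ := CL.SF.Sig.complete
    { r := σ.r, A := σ.A, θ := σ.θ, prime := σ.prime, elem := σ.elem, rank := σ.rank,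
      cent := σ.cent, cop := σ.cop, inv := σ.inv, bal := σ.bal, sol := fun a h1 h2 => hs a ⟨h1, h2⟩ }
  exact h.notc ⟨K, ⟨hK.cop, hK.inv, hK.le⟩, hle⟩

/-- a `θ`-subgroup normalised by all `θ(L)` is trivial. -/
theorem Min.eq_bot_of_ln (h : σ.Min) (hX : σ.Th X) (hn : ∀ L, σ.Ln L → σ.inf L ≤ 𝐍(X)) :
    X = ⊥ := by
  by_contra h1
  obtain ⟨a, ha, hn'⟩ := h.quo X hX h1
  exact hn' (ha.th.le_of_inf_le hn)

/-- The configuration of the end game. -/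
structure End (σ : Sig G) (Vis : G → Prop) (K : G → Subgroup G) : Prop where
  pt : ∀ a, Vis a → σ.Pt a
  ex : ∃ a, Vis a
  simple : ∀ a, Vis a → IsSimpleGroup (K a)
  nonab : ∀ a, Vis a → ¬ IsMulCommutative (K a)
  le : ∀ a, Vis a → K a ≤ σ.θ a
  norm : ∀ a, Vis a → ∀ g ∈ σ.A, σ.θ a ≤ 𝐍(g •ᶜ K a)
  cent : ∀ a, Vis a → σ.θ a ⊓ 𝐂(ncl (K a) σ.A) = ⊥
  exln : ∀ a, Vis a → ∃ B, σ.Ln B ∧ a ∈ B ∧ B ⊓ 𝐍(K a) ≤ 𝐂(K a)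
  full : ∀ a B, Vis a → σ.Ln B → a ∈ B → B ⊓ 𝐍(K a) ≤ 𝐂(K a) →
    ∀ b ∈ B, b ≠ 1 → Vis b ∧ ncl (K a) σ.A ⊓ 𝐂(B) ≤ ncl (K b) σ.A
  line : ∀ a B, Vis a → σ.Ln B → a ∈ B → ¬ Group.IsSolvable ↥(ncl (K a) σ.A ⊓ 𝐂(B)) →
    ∀ b ∈ B, b ≠ 1 → Vis b ∧
      ∀ Y, Y ≤ ncl (K a) σ.A ⊓ 𝐂(B) → ⁅Y, Y⁆ = Y → Y ≤ ncl (K b) σ.A
  all : ∀ a, Vis a → ¬ Group.IsSolvable ↥(ncl (K a) σ.A ⊓ 𝐂(σ.A)) → ∀ b, σ.Pt b → Vis b
  sol : ∀ c, σ.Pt c → ¬ Vis c → Group.IsSolvable (σ.θ c)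

end Sig

end CL.NS
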